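import Groth.Prelude.Def_W4c5normfunctorschNorm
import Mathlib.RingTheory.TensorProduct.Basic
import Mathlib.RingTheory.Norm.Basic

/-!
# Base change of universal normic pairs
-/

set_option autoImplicit false
set_option linter.style.haveILetI false
universe u

open TensorProduct

namespace Groth.Agent.NormBC28

section Bc

variable {R : Type u} [CommRing R] {Q : Type u} [CommRing Q] [Algebra R Q]
  {X : Type u} [AddCommGroup X] [Module R X]
  {Y : Type u} [AddCommGroup Y] [Module R Y] [Module Q Y] [IsScalarTower R Q Y]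

/-- `p ⊗ x ↦ p ⊗ g x`. -/
noncomputable def bc (Q : Type u) [CommRing Q] [Algebra R Q] [Module Q Y] [IsScalarTower R Q Y]
    (g : X →ₗ[R] Y) (P : Type u) [CommSemiring P] [Algebra R P] [Algebra Q P]
    [IsScalarTower R Q P] : P ⊗[R] X →ₗ[Q] P ⊗[Q] Y :=
  ((g.liftBaseChange Q).lTensor P) ∘ₗ
    ((TensorProduct.AlgebraTensorModule.cancelBaseChange R Q P P X).symm.toLinearMap.restrictScalars Q)

variable (g : X →ₗ[R] Y)

@[simp]
theorem bc_tmul (P : Type u) [CommSemiring P] [Algebra R P] [Algebra Q P] [IsScalarTower R Q P]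
    (p : P) (x : X) : bc Q g P (p ⊗ₜ x) = p ⊗ₜ g x := by
  simp [bc, LinearMap.liftBaseChange_tmul]

theorem bc_smul (P : Type u) [CommSemiring P] [Algebra R P] [Algebra Q P] [IsScalarTower R Q P]
    (p : P) (z : P ⊗[R] X) : bc Q g P (p • z) = p • bc Q g P z := by
  induction z with
  | zero => simp
  | add a b ha hb => simp only [smul_add, map_add, ha, hb]
  | tmul a b => simp [TensorProduct.smul_tmul']

theorem bc_rTensor {P P' : Type u} [CommSemiring P] [Algebra R P] [Algebra Q P] [IsScalarTower R Q P]
    [CommSemiring P'] [Algebra R P'] [Algebra Q P'] [IsScalarTower R Q P'] (φ : P →ₐ[Q] P')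
    (ψ : P →ₐ[R] P') (h : ∀ p, ψ p = φ p) (z : P ⊗[R] X) :
    bc Q g P' (ψ.toLinearMap.rTensor X z) = φ.toLinearMap.rTensor Y (bc Q g P z) := by
  induction z with
  | zero => simp
  | add a b ha hb => simp only [map_add, ha, hb]
  | tmul a b => simp [h]

theorem bc_bijective (hg : IsBaseChange Q g) (P : Type u) [CommSemiring P] [Algebra R P] [Algebra Q P]
    [IsScalarTower R Q P] : Function.Bijective (bc Q g P) := by
  let e : Q ⊗[R] X ≃ₗ[Q] Y := hg.equiv
  have he : g.liftBaseChange Q = e.toLinearMap := by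
    refine TensorProduct.AlgebraTensorModule.ext fun q x => ?_
    rw [LinearMap.liftBaseChange_tmul, LinearEquiv.coe_coe, hg.equiv_tmul]
  rw [bc, he]
  exact (LinearEquiv.lTensor P e).bijective.comp
    (TensorProduct.AlgebraTensorModule.cancelBaseChange R Q P P X).symm.bijective

/-- The inverse direction. -/
noncomputable def bcEquiv (hg : IsBaseChange Q g) (P : Type u) [CommSemiring P] [Algebra R P] [Algebra Q P]
    [IsScalarTower R Q P] : P ⊗[R] X ≃ₗ[Q] P ⊗[Q] Y :=
  LinearEquiv.ofBijective (bc Q g P) (bc_bijective g hg P)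

/-- `(q ⊗ p) ⊗ y ↦ p ⊗ q • y`. -/
noncomputable def collapse (P : Type u) [CommSemiring P] [Algebra R P] :
    (Q ⊗[R] P) ⊗[Q] Y →ₗ[R] P ⊗[R] Y :=
  (TensorProduct.comm R Y P).toLinearMap ∘ₗ
    ((TensorProduct.AlgebraTensorModule.cancelBaseChange R Q Q Y P).toLinearMap.restrictScalars R) ∘ₗ
    ((TensorProduct.comm Q (Q ⊗[R] P) Y).toLinearMap.restrictScalars R)

@[simp]
theorem collapse_tmul (P : Type u) [CommSemiring P] [Algebra R P] (q : Q) (p : P) (y : Y) :
    collapse (Q := Q) P ((q ⊗ₜ[R] p) ⊗ₜ[Q] y) = p ⊗ₜ[R] (q • y) := by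
  simp [collapse]

theorem collapse_includeRight_smul (P : Type u) [CommSemiring P] [Algebra R P] (a : P)
    (z : (Q ⊗[R] P) ⊗[Q] Y) :
    collapse (Q := Q) P ((Algebra.TensorProduct.includeRight (R := R) (A := Q) a) • z) =
      a • collapse (Q := Q) P z := by
  induction z with
  | zero => simp
  | add x y hx hy => simp only [smul_add, map_add, hx, hy]
  | tmul w y =>
    induction w with
    | zero => simp
    | add x x' hx hx' =>
      simp only [TensorProduct.add_tmul, smul_add, map_add, hx, hx']
    | tmul q p => simp [TensorProduct.smul_tmul', Algebra.TensorProduct.tmul_mul_tmul]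

theorem collapse_natural {P P' : Type u} [CommSemiring P] [Algebra R P] [CommSemiring P'] [Algebra R P']
    (φ : P →ₐ[R] P') (z : (Q ⊗[R] P) ⊗[Q] Y) :
    φ.toLinearMap.rTensor Y (collapse (Q := Q) P z) =
      collapse (Q := Q) P' ((Algebra.TensorProduct.map (AlgHom.id Q Q) φ).toLinearMap.rTensor Y z) := by
  induction z with
  | zero => simp
  | add x y hx hy => simp only [map_add, hx, hy]
  | tmul w y =>
    induction w with
    | zero => simp
    | add x x' hx hx' => simp only [TensorProduct.add_tmul, map_add, hx, hx']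
    | tmul q p => simp

end Bc

section Laws

variable {R R' Q Q' : Type u} [CommRing R] [CommRing R'] [Algebra R R']
    [CommRing Q] [Algebra R Q] [CommRing Q'] [Algebra R Q'] [Algebra Q Q'] [Algebra R' Q']
    [IsScalarTower R Q Q'] [IsScalarTower R R' Q'] [Algebra.IsPushout R R' Q Q']
    {M' : Type u} [AddCommGroup M'] [Module R M'] [Module R' M'] [IsScalarTower R R' M']
    {M'' : Type u} [AddCommGroup M''] [Module R M''] [Module R' M''] [Module Q M''] [Module Q' M'']
    [IsScalarTower R R' M''] [IsScalarTower R Q M''] [IsScalarTower R' Q' M''] [IsScalarTower Q Q' M'']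

theorem isBaseChange_restrict (f : M' →ₗ[R'] M'') (hf : IsBaseChange Q' f) :
    IsBaseChange Q (f.restrictScalars R) := by
  let eQ : R' ⊗[R] Q ≃ₐ[R'] Q' := Algebra.IsPushout.equiv R R' Q Q'
  let e₁ : M' ⊗[R] Q ≃ₗ[R'] M' ⊗[R'] Q' :=
    (TensorProduct.AlgebraTensorModule.cancelBaseChange R R' R' M' Q).symm.trans
      (LinearEquiv.lTensor M' eQ.toLinearEquiv)
  let e : Q ⊗[R] M' ≃+ M'' :=
    ((TensorProduct.comm R Q M').toAddEquiv.trans e₁.toAddEquiv).trans
      ((TensorProduct.comm R' M' Q').toAddEquiv.trans hf.equiv.toAddEquiv)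
  have he : ∀ (q : Q) (m : M'), e (q ⊗ₜ m) = q • f m := by
    intro q m
    simp [e, e₁, eQ, hf.equiv_tmul, Algebra.IsPushout.equiv_tmul, algebraMap_smul]
  refine IsBaseChange.of_equiv { e with map_smul' := fun q x => ?_ } fun m => ?_
  · show e (q • x) = q • e x
    induction x with
    | zero => simp
    | add a b ha hb => simp only [smul_add, map_add, ha, hb]
    | tmul a m => rw [TensorProduct.smul_tmul', he, he, smul_eq_mul, mul_smul]
  · show e (1 ⊗ₜ m) = f m
    rw [he, one_smul]

variable (f : M' →ₗ[R'] M'')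

/-- The comparison of test rings for the pushout. -/
noncomputable def chi (W : Type u) [CommRing W] [Algebra R W] [Algebra Q W] [IsScalarTower R Q W] :
    W ⊗[R] R' ≃ₐ[W] W ⊗[Q] Q' :=
  AlgEquiv.ofBijective
    (Algebra.TensorProduct.lift (Algebra.TensorProduct.includeLeft (R := Q) (S := W))
      (((Algebra.TensorProduct.includeRight (R := Q) (A := W)).restrictScalars R).comp
        (IsScalarTower.toAlgHom R R' Q'))
      (fun _ _ => mul_comm _ _))
    (by
      have hb : IsBaseChange Q ((IsScalarTower.toAlgHom R R' Q').toLinearMap) :=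
        (Algebra.IsPushout.symm ‹Algebra.IsPushout R R' Q Q'›).out
      convert bc_bijective (IsScalarTower.toAlgHom R R' Q').toLinearMap hb W using 1
      funext z
      induction z with
      | zero => simp
      | add a b ha hb => simp only [map_add, ha, hb]
      | tmul a b =>
        rw [bc_tmul]
        show Algebra.TensorProduct.includeLeft (R := Q) (S := W) (A := W) (B := Q') a *
          Algebra.TensorProduct.includeRight (R := Q) (A := W) (B := Q') (algebraMap R' Q' b) = _
        simp)

theorem chi_tmul (W : Type u) [CommRing W] [Algebra R W] [Algebra Q W] [IsScalarTower R Q W]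
    (w : W) (b : R') : chi (R := R) (Q := Q) (Q' := Q') W (w ⊗ₜ b) = w ⊗ₜ algebraMap R' Q' b := by
  show Algebra.TensorProduct.includeLeft (R := Q) (S := W) (A := W) (B := Q') w *
    Algebra.TensorProduct.includeRight (R := Q) (A := W) (B := Q') (algebraMap R' Q' b) = _
  simp

theorem bc_actEnd (W : Type u) [CommRing W] [Algebra R W] [Algebra Q W] [IsScalarTower R Q W]
    (y : W ⊗[R] R') (z : W ⊗[R] M') :
    bc Q (f.restrictScalars R) W (PolLaw.actEnd M' W y z) =
      PolLaw.actEnd M'' W (chi (Q' := Q') W y) (bc Q (f.restrictScalars R) W z) := by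
  induction y with
  | zero => simp
  | add a b ha hb => simp only [map_add, LinearMap.add_apply, ha, hb]
  | tmul w b =>
    induction z with
    | zero => simp
    | add a b ha hb => simp only [map_add, ha, hb]
    | tmul t m => simp [chi_tmul, algebraMap_smul]

variable [Module.Free R R'] [Module.Finite R R']

theorem norm_chi (W : Type u) [CommRing W] [Algebra R W] [Algebra Q W] [IsScalarTower R Q W]
    {P : Type u} [CommRing P] [Algebra R P] (ι : P →ₐ[R] W) (x : P ⊗[R] R') :
    Algebra.norm W (chi (R := R) (Q := Q) (Q' := Q') W (Algebra.TensorProduct.map ι (AlgHom.id R R') x)) =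
      ι (Algebra.norm P x) := by
  rw [Algebra.norm_eq_of_algEquiv, ← PolLaw.detAct_self, PolLaw.detAct_map, PolLaw.detAct_self]

variable {N : Type u} [AddCommGroup N] [Module R N]
    {N'' : Type u} [AddCommGroup N''] [Module R N''] [Module Q N''] [IsScalarTower R Q N'']

/-- Restriction to the base of a law over `Q`. -/
noncomputable def down (ν'' : M'' →ₚₗ[Q] N'') : M' →ₚₗ[R] N'' where
  toFun' P _ _ m := collapse (Q := Q) P (ν''.toFun' (Q ⊗[R] P) (bc Q (f.restrictScalars R) (Q ⊗[R] P)
    ((Algebra.TensorProduct.includeRight (R := R) (A := Q) (B := P)).toLinearMap.rTensor M' m)))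
  isCompat' {P} _ _ {P'} _ _ φ := by
    funext m
    simp only [Function.comp_apply]
    rw [collapse_natural, PolynomialLaw.isCompat_apply',
      ← bc_rTensor (f.restrictScalars R) (Algebra.TensorProduct.map (AlgHom.id Q Q) φ)
        ((Algebra.TensorProduct.map (AlgHom.id Q Q) φ).restrictScalars R) (fun _ => rfl)]
    congr 3
    rw [← LinearMap.comp_apply, ← LinearMap.rTensor_comp, ← LinearMap.comp_apply,
      ← LinearMap.rTensor_comp]
    congr 2

theorem isNormic_down {ν'' : M'' →ₚₗ[Q] N''} (hν : PolLaw.IsNormic Q' ν'') :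
    PolLaw.IsNormic R' (down (R := R) f ν'') := by
  intro P _ _ x m
  show collapse (Q := Q) P (ν''.toFun' (Q ⊗[R] P) (bc Q (f.restrictScalars R) (Q ⊗[R] P) _)) = _
  rw [PolLaw.rTensor_actEnd, bc_actEnd (Q' := Q'), hν, norm_chi, collapse_includeRight_smul]
  rfl

/-- The value of the extended law, given an algebra structure over the base. -/
noncomputable def upFun (ν : M' →ₚₗ[R] N) (hf : IsBaseChange Q (f.restrictScalars R)) (P : Type u)
    [CommSemiring P] [Algebra R P] [Algebra Q P] [IsScalarTower R Q P] (m : P ⊗[Q] M'') :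
    P ⊗[Q] (Q ⊗[R] N) :=
  bc Q (TensorProduct.mk R Q N 1) P (ν.toFun' P ((bcEquiv (f.restrictScalars R) hf P).symm m))

omit [Module.Free R R'] [Module.Finite R R'] in
theorem upFun_natural (ν : M' →ₚₗ[R] N) (hf : IsBaseChange Q (f.restrictScalars R)) {P P' : Type u}
    [CommSemiring P] [Algebra R P] [Algebra Q P] [IsScalarTower R Q P]
    [CommSemiring P'] [Algebra R P'] [Algebra Q P'] [IsScalarTower R Q P'] (φ : P →ₐ[Q] P')
    (m : P ⊗[Q] M'') :
    φ.toLinearMap.rTensor _ (upFun f ν hf P m) = upFun f ν hf P' (φ.toLinearMap.rTensor M'' m) := by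
  obtain ⟨m, rfl⟩ := (bcEquiv (f.restrictScalars R) hf P).surjective m
  rw [upFun, upFun, LinearEquiv.symm_apply_apply, ← bc_rTensor _ φ (φ.restrictScalars R) (fun _ => rfl),
    PolynomialLaw.isCompat_apply']
  congr 2
  rw [LinearEquiv.eq_symm_apply]
  exact bc_rTensor _ φ (φ.restrictScalars R) (fun _ => rfl) m

/-- Extension to `Q` of a law over the base. -/
noncomputable def up (ν : M' →ₚₗ[R] N) (hf : IsBaseChange Q (f.restrictScalars R)) :
    M'' →ₚₗ[Q] Q ⊗[R] N where
  toFun' P _ _ m :=
    letI : Algebra R P := Algebra.compHom P (algebraMap R Q)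
    haveI : IsScalarTower R Q P := IsScalarTower.of_algebraMap_eq fun _ => rfl
    upFun f ν hf P m
  isCompat' {P} _ _ {P'} _ _ φ := by
    letI : Algebra R P := Algebra.compHom P (algebraMap R Q)
    haveI : IsScalarTower R Q P := IsScalarTower.of_algebraMap_eq fun _ => rfl
    letI : Algebra R P' := Algebra.compHom P' (algebraMap R Q)
    haveI : IsScalarTower R Q P' := IsScalarTower.of_algebraMap_eq fun _ => rfl
    funext m
    exact upFun_natural f ν hf φ m

omit [Module.Free R R'] [Module.Finite R R'] in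
theorem up_apply (ν : M' →ₚₗ[R] N) (hf : IsBaseChange Q (f.restrictScalars R)) (P : Type u)
    [CommSemiring P] [inst : Algebra R P] [Algebra Q P] [IsScalarTower R Q P] (m : P ⊗[R] M') :
    (up f ν hf).toFun' P (bc Q (f.restrictScalars R) P m) =
      bc Q (TensorProduct.mk R Q N 1) P (ν.toFun' P m) := by
  have h : inst = Algebra.compHom P (algebraMap R Q) :=
    Algebra.algebra_ext _ _ fun r => IsScalarTower.algebraMap_apply R Q P r
  subst h
  letI : Algebra R P := Algebra.compHom P (algebraMap R Q)
  show upFun f ν hf P (bc Q (f.restrictScalars R) P m) = _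
  rw [upFun]
  congr 2
  exact (bcEquiv (f.restrictScalars R) hf P).symm_apply_apply m

theorem isNormic_up {ν : M' →ₚₗ[R] N} (hν : PolLaw.IsNormic R' ν)
    (hf : IsBaseChange Q (f.restrictScalars R)) : PolLaw.IsNormic Q' (up f ν hf) := by
  intro P _ _ x m
  letI : Algebra R P := Algebra.compHom P (algebraMap R Q)
  haveI : IsScalarTower R Q P := IsScalarTower.of_algebraMap_eq fun _ => rfl
  obtain ⟨x, rfl⟩ := (chi (R := R) (R' := R') (Q' := Q') P).surjective x
  obtain ⟨m, rfl⟩ := (bc_bijective (f.restrictScalars R) hf P).2 m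
  rw [← bc_actEnd, up_apply f ν hf P, up_apply f ν hf P, hν, Algebra.norm_eq_of_algEquiv, bc_smul]

omit [Module.Free R R'] [Module.Finite R R'] in
theorem down_rTensor (ν'' : M'' →ₚₗ[Q] N'') (P : Type u) [CommSemiring P] [Algebra R P] [Algebra Q P]
    [IsScalarTower R Q P] (m : P ⊗[R] M') :
    bc Q (LinearMap.id : N'' →ₗ[R] N'') P ((down f ν'').toFun' P m) =
      ν''.toFun' P (bc Q (f.restrictScalars R) P m) := by
  let ρ : Q ⊗[R] P →ₐ[Q] P :=
    Algebra.TensorProduct.lift (Algebra.ofId Q P) (AlgHom.id R P) fun _ _ => mul_comm _ _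
  have key : ∀ z : (Q ⊗[R] P) ⊗[Q] N'',
      bc Q (LinearMap.id : N'' →ₗ[R] N'') P (collapse (Q := Q) P z) = ρ.toLinearMap.rTensor N'' z := by
    intro z
    induction z with
    | zero => simp
    | add a b ha hb => simp only [map_add, ha, hb]
    | tmul w y =>
      induction w with
      | zero => simp
      | add a b ha hb => simp only [TensorProduct.add_tmul, map_add, ha, hb]
      | tmul q p =>
        have hρ : ρ (q ⊗ₜ[R] p) = algebraMap Q P q * p := rfl
        simp [hρ, TensorProduct.tmul_smul, TensorProduct.smul_tmul', Algebra.smul_def]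
  show bc Q _ P (collapse (Q := Q) P _) = _
  rw [key, PolynomialLaw.isCompat_apply', ← bc_rTensor _ ρ (ρ.restrictScalars R) (fun _ => rfl),
    ← LinearMap.comp_apply, ← LinearMap.rTensor_comp]
  congr 2
  rw [show (ρ.restrictScalars R).toLinearMap ∘ₗ
    (Algebra.TensorProduct.includeRight (R := R) (A := Q) (B := P)).toLinearMap = LinearMap.id from by
      ext p; exact (show algebraMap Q P 1 * p = p by simp)]
  simp

/-- Base change of universal normic pairs. -/
theorem exists_isBaseChange (hf : IsBaseChange Q' f) (ν : M' →ₚₗ[R] N) (hν : PolLaw.IsUnivNormic R' ν)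
    (ν'' : M'' →ₚₗ[Q] N'') (hν'' : PolLaw.IsUnivNormic Q' ν'') :
    ∃ u : N →ₗ[R] N'',
      (∀ (P : Type u) [CommRing P] [Algebra R P] [Algebra Q P] [IsScalarTower R Q P] (m : P ⊗[R] M'),
          ν''.toFun' P (PolLaw.bcAlong (f.restrictScalars R) P m) = PolLaw.bcAlong u P (ν.toFun' P m)) ∧
      IsBaseChange Q u := by
  have hfR := isBaseChange_restrict (R := R) (Q := Q) f hf
  obtain ⟨u, hu, -⟩ := hν.2 N'' (down f ν'') (isNormic_down f hν''.1)
  obtain ⟨v, hv, -⟩ := hν''.2 (Q ⊗[R] N) (up f ν hfR) (isNormic_up f hν.1 hfR)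
  have hbc : ∀ (P : Type u) [CommSemiring P] [Algebra R P] [Algebra Q P] [IsScalarTower R Q P]
      (m : P ⊗[R] M'),
      ν''.toFun' P (bc Q (f.restrictScalars R) P m) = bc Q u P (ν.toFun' P m) := by
    intro P _ _ _ _ m
    rw [← down_rTensor, ← hu]
    show bc Q LinearMap.id P (u.lTensor P (ν.toFun' P m)) = _
    induction ν.toFun' P m with
    | zero => simp
    | add a b ha hb => simp only [map_add, ha, hb]
    | tmul a b => simp
  refine ⟨u, fun P _ _ _ _ m => hbc P m, ?_⟩
  have h1 : v.restrictScalars R ∘ₗ u = TensorProduct.mk R Q N 1 := by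
    have hn : PolLaw.IsNormic R' (PolLaw.postcomp (TensorProduct.mk R Q N 1) ν) := by
      intro P _ _ x m
      show (TensorProduct.mk R Q N 1).lTensor P (ν.toFun' P (PolLaw.actEnd M' P x m)) =
        Algebra.norm P x • (TensorProduct.mk R Q N 1).lTensor P (ν.toFun' P m)
      rw [hν.1]
      exact ((TensorProduct.mk R Q N 1).baseChange P).map_smul _ _
    refine (hν.2 _ _ hn).unique ?_ rfl
    refine PolynomialLaw.ext ?_
    funext P _ _ m
    show (v.restrictScalars R ∘ₗ u).lTensor P (ν.toFun' P m) =
      (TensorProduct.mk R Q N 1).lTensor P (ν.toFun' P m)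
    rw [LinearMap.lTensor_comp_apply]
    have hd : u.lTensor P (ν.toFun' P m) = (down f ν'').toFun' P m := by rw [← hu]; rfl
    rw [hd]
    show (v.restrictScalars R).lTensor P (collapse (Q := Q) P (ν''.toFun' (Q ⊗[R] P) _)) = _
    have hnat : ∀ z : (Q ⊗[R] P) ⊗[Q] N'', (v.restrictScalars R).lTensor P (collapse (Q := Q) P z) =
        collapse (Q := Q) P (v.lTensor (Q ⊗[R] P) z) := by
      intro z
      induction z with
      | zero => simp
      | add a b ha hb => simp only [map_add, ha, hb]
      | tmul w y =>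
        induction w with
        | zero => simp
        | add a b ha hb => simp only [TensorProduct.add_tmul, map_add, ha, hb]
        | tmul q p => simp
    rw [hnat]
    have hV : ∀ z, v.lTensor (Q ⊗[R] P) (ν''.toFun' (Q ⊗[R] P) z) = (up f ν hfR).toFun' (Q ⊗[R] P) z := by
      intro z; rw [← hv]; rfl
    rw [hV, up_apply, ← PolynomialLaw.isCompat_apply']
    induction ν.toFun' P m with
    | zero => simp
    | add a b ha hb => simp only [map_add, ha, hb]
    | tmul a b => simp
  let u' : Q ⊗[R] N →ₗ[Q] N'' := u.liftBaseChange Q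
  have h2 : u' ∘ₗ v = LinearMap.id := by
    refine (hν''.2 _ ν'' hν''.1).unique ?_ ?_
    · refine PolynomialLaw.ext ?_
      funext P _ _ m
      letI : Algebra R P := Algebra.compHom P (algebraMap R Q)
      haveI : IsScalarTower R Q P := IsScalarTower.of_algebraMap_eq fun _ => rfl
      obtain ⟨m, rfl⟩ := (bc_bijective (f.restrictScalars R) hfR P).2 m
      show (u' ∘ₗ v).lTensor P (ν''.toFun' P _) = ν''.toFun' P _
      rw [LinearMap.lTensor_comp_apply]
      have hV : v.lTensor P (ν''.toFun' P (bc Q (f.restrictScalars R) P m)) =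
          (up f ν hfR).toFun' P (bc Q (f.restrictScalars R) P m) := by rw [← hv]; rfl
      rw [hV, up_apply, hbc]
      induction ν.toFun' P m with
      | zero => simp
      | add a b ha hb => simp only [map_add, ha, hb]
      | tmul a b => simp [u', LinearMap.liftBaseChange_tmul]
    · refine PolynomialLaw.ext ?_
      funext P _ _ m
      show (LinearMap.id : N'' →ₗ[Q] N'').lTensor P (ν''.toFun' P m) = _
      rw [LinearMap.lTensor_id, LinearMap.id_apply]
  refine IsBaseChange.of_equiv (LinearEquiv.ofLinearMap u' v h2 ?_) fun n => ?_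
  · refine TensorProduct.AlgebraTensorModule.ext fun q n => ?_
    have := LinearMap.congr_fun h1 n
    simp only [LinearMap.comp_apply, LinearMap.restrictScalars_apply, TensorProduct.mk_apply] at this
    simp [u', LinearMap.liftBaseChange_tmul, this, TensorProduct.smul_tmul']
  · simp [u', LinearMap.liftBaseChange_tmul]

end Laws

end Groth.Agent.NormBC28
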